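import Groth.Prelude.Def_LefPen
import Mathlib.RingTheory.MvPolynomial.EulerIdentity
import Mathlib.LinearAlgebra.Basis.VectorSpace
import Mathlib.LinearAlgebra.Dimension.Constructions

/-! Forms with prescribed first order data at two points. -/

set_option autoImplicit false
set_option linter.unusedSectionVars false

universe u

namespace Groth.Agent.TwoPoint38

open MvPolynomial

variable {k : Type u} [Field k] {r : ℕ}

/-- The polynomial of a linear form. -/
noncomputable def lin (φ : (Fin (r + 1) → k) →ₗ[k] k) : MvPolynomial (Fin (r + 1)) k :=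
  ∑ i, C (φ (Pi.single i 1)) * X i

/-- The derivative at `v` in direction `w`. -/
noncomputable def dd (v w : Fin (r + 1) → k) : MvPolynomial (Fin (r + 1)) k →ₗ[k] k :=
  ∑ i : Fin (r + 1), (w i) • ((aeval v).toLinearMap ∘ₗ (pderiv i).toLinearMap)

theorem dd_apply (v w : Fin (r + 1) → k) (G : MvPolynomial (Fin (r + 1)) k) :
    dd v w G = ∑ i, w i * aeval v (pderiv i G) := by
  simp [dd]

theorem dd_add (v a b : Fin (r + 1) → k) : dd v (a + b) = dd v a + dd v b := by
  simp [dd, add_smul, Finset.sum_add_distrib]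

theorem dd_smul (v a : Fin (r + 1) → k) (c : k) : dd v (c • a) = c • dd v a := by
  simp [dd, Finset.smul_sum, mul_smul]

/-- `dd` is linear in the direction. -/
noncomputable def dlin (v : Fin (r + 1) → k) :
    MvPolynomial (Fin (r + 1)) k →ₗ[k] (Fin (r + 1) → k) →ₗ[k] k where
  toFun G :=
    { toFun := fun w => dd v w G
      map_add' := fun a b => by rw [dd_add, LinearMap.add_apply]
      map_smul' := fun c a => by rw [dd_smul, LinearMap.smul_apply, RingHom.id_apply] }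
  map_add' G H := LinearMap.ext fun w => map_add (dd v w) G H
  map_smul' c G := LinearMap.ext fun w => map_smul (dd v w) c G

theorem dlin_apply (v w : Fin (r + 1) → k) (G : MvPolynomial (Fin (r + 1)) k) : dlin v G w = dd v w G := rfl

theorem apply_eq_sum (φ : (Fin (r + 1) → k) →ₗ[k] k) (v : Fin (r + 1) → k) :
    φ v = ∑ i, v i * φ (Pi.single i 1) := by
  rw [φ.pi_apply_eq_sum_univ v]
  refine Finset.sum_congr rfl fun i _ => ?_
  rw [smul_eq_mul]
  congr 2
  funext j
  simp [Pi.single_apply, eq_comm]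

theorem aeval_lin (φ : (Fin (r + 1) → k) →ₗ[k] k) (v : Fin (r + 1) → k) : aeval v (lin φ) = φ v := by
  rw [apply_eq_sum φ v]
  simp [lin, mul_comm]

theorem dd_mul (v w : Fin (r + 1) → k) (G H : MvPolynomial (Fin (r + 1)) k) :
    dd v w (G * H) = aeval v G * dd v w H + aeval v H * dd v w G := by
  simp only [dd_apply, pderiv_mul, map_add, map_mul, Finset.mul_sum, ← Finset.sum_add_distrib]
  exact Finset.sum_congr rfl fun i _ => by ring

theorem dd_lin (φ : (Fin (r + 1) → k) →ₗ[k] k) (v w : Fin (r + 1) → k) : dd v w (lin φ) = φ w := by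
  classical
  rw [apply_eq_sum φ w, dd_apply]
  refine Finset.sum_congr rfl fun i _ => ?_
  simp [lin, pderiv_X, Pi.single_apply]

theorem dd_pow (v w : Fin (r + 1) → k) (G : MvPolynomial (Fin (r + 1)) k) (n : ℕ) :
    dd v w (G ^ n) = (n : k) * aeval v G ^ (n - 1) * dd v w G := by
  simp only [dd_apply, pderiv_pow, map_mul, map_pow, map_natCast, Finset.mul_sum]
  exact Finset.sum_congr rfl fun i _ => by ring

theorem lin_pow_homogeneous (φ : (Fin (r + 1) → k) →ₗ[k] k) (n : ℕ) : (lin φ ^ n).IsHomogeneous n := by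
  have : (lin φ).IsHomogeneous 1 := IsHomogeneous.sum _ _ 1 fun i _ => isHomogeneous_C_mul_X _ _
  simpa using this.pow n

theorem aeval_eq_coeff_zero {P : MvPolynomial (Fin (r + 1)) k} (hP : P.IsHomogeneous 0) (v : Fin (r + 1) → k) :
    aeval v P = coeff 0 P := by
  have h := totalDegree_eq_zero_iff_eq_C.1 ((totalDegree_zero_iff_isHomogeneous _).2 hP)
  conv_lhs => rw [h]
  simp

theorem aeval_linear {P : MvPolynomial (Fin (r + 1)) k} (hP : P.IsHomogeneous 1) (v : Fin (r + 1) → k) :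
    aeval v P = ∑ j, v j * coeff 0 (pderiv j P) := by
  conv_lhs => rw [← one_smul ℕ P, ← hP.sum_X_mul_pderiv]
  simp only [map_sum, map_mul, aeval_X]
  exact Finset.sum_congr rfl fun j _ => by rw [aeval_eq_coeff_zero hP.pderiv]

theorem coeff_zero_pderiv_pderiv (i j : Fin (r + 1)) (G : MvPolynomial (Fin (r + 1)) k) :
    coeff 0 (pderiv i (pderiv j G)) = coeff 0 (pderiv j (pderiv i G)) := by
  classical
  rcases eq_or_ne i j with rfl | h
  · rfl
  · rw [coeff_pderiv, coeff_pderiv, coeff_pderiv, coeff_pderiv, zero_add, zero_add, add_comm (Finsupp.single i 1)]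
    simp [h, h.symm]

theorem dd_symm {G : MvPolynomial (Fin (r + 1)) k} (hG : G.IsHomogeneous 2) (v w : Fin (r + 1) → k) :
    dd v w G = dd w v G := by
  simp only [dd_apply, fun i v => aeval_linear (hG.pderiv (i := i)) v, Finset.mul_sum]
  rw [Finset.sum_comm]
  refine Finset.sum_congr rfl fun i _ => Finset.sum_congr rfl fun j _ => ?_
  rw [coeff_zero_pderiv_pderiv]
  ring

theorem exists_functional (U : Submodule k (Fin (r + 1) → k)) (f : U →ₗ[k] k) {v : Fin (r + 1) → k} (hv : v ∉ U)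
    (y : k) : ∃ φ : (Fin (r + 1) → k) →ₗ[k] k, (∀ u : U, φ u = f u) ∧ φ v = y := by
  obtain ⟨φ, h1, h2⟩ := LinearMap.exists_extend_of_notMem f hv y
  exact ⟨φ, fun u => LinearMap.congr_fun h1 u, h2⟩

theorem exists_functional₂ (U : Submodule k (Fin (r + 1) → k)) (f : U →ₗ[k] k) {v v' : Fin (r + 1) → k} (hv : v ∉ U)
    (hv' : v' ∉ U ⊔ Submodule.span k {v}) (y y' : k) :
    ∃ φ : (Fin (r + 1) → k) →ₗ[k] k, (∀ u : U, φ u = f u) ∧ φ v = y ∧ φ v' = y' := by
  obtain ⟨φ₀, h1, h2⟩ := exists_functional U f hv y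
  obtain ⟨φ, h3, h4⟩ := exists_functional _ (φ₀.domRestrict (U ⊔ Submodule.span k {v})) hv' y'
  exact ⟨φ, fun u => (h3 ⟨u, Submodule.mem_sup_left u.2⟩).trans (h1 u),
    (h3 ⟨v, Submodule.mem_sup_right (Submodule.mem_span_singleton_self v)⟩).trans h2, h4⟩

/-- The value and the derivatives along `U` of a form at `v`. -/
noncomputable def data (d : ℕ) (U : Submodule k (Fin (r + 1) → k)) (v : Fin (r + 1) → k) :
    LefPen.Form r k d →ₗ[k] k × (U →ₗ[k] k) :=
  LinearMap.prod ((aeval v).toLinearMap ∘ₗ (CohB1.polyGrading r k d).subtype)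
    ((LinearMap.lcomp k k U.subtype) ∘ₗ dlin v ∘ₗ (CohB1.polyGrading r k d).subtype)

theorem data_fst {d : ℕ} (U : Submodule k (Fin (r + 1) → k)) (v : Fin (r + 1) → k) (G : LefPen.Form r k d) :
    (data d U v G).1 = aeval v G.1 := rfl

theorem data_snd {d : ℕ} (U : Submodule k (Fin (r + 1) → k)) (v : Fin (r + 1) → k) (G : LefPen.Form r k d) (u : U) :
    (data d U v G).2 u = dd v u G.1 := rfl

set_option maxHeartbeats 400000 in
theorem data_surjective {d : ℕ} (hd : 2 ≤ d) (U₁ U₂ : Submodule k (Fin (r + 1) → k)) {v₁ v₂ : Fin (r + 1) → k}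
    (hv : LinearIndependent k ![v₁, v₂]) (h₁ : v₁ ∉ U₁) (h₂ : v₂ ∉ U₂)
    (hgen : 3 ≤ d ∨ v₂ ∉ U₁ ⊔ Submodule.span k {v₁}) :
    Function.Surjective ((data d U₁ v₁).prod (data d U₂ v₂)) := by
  rintro ⟨⟨c₁, f₁⟩, c₂, f₂⟩
  have h21 : v₂ ∉ (Submodule.span k {v₁} : Submodule k (Fin (r + 1) → k)) := by
    intro h
    obtain ⟨c, hc⟩ := Submodule.mem_span_singleton.1 h
    have := (LinearIndependent.pair_iff.1 hv) c (-1) (by rw [hc, neg_one_smul, add_neg_cancel])
    simp at this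
  have hne : v₁ ∉ (⊥ : Submodule k (Fin (r + 1) → k)) := by
    rw [Submodule.mem_bot]
    exact hv.ne_zero 0
  have h12 : v₂ ∉ (⊥ : Submodule k (Fin (r + 1) → k)) ⊔ Submodule.span k {v₁} := by rwa [bot_sup_eq]
  obtain ⟨a, -, a1, a2⟩ := exists_functional₂ ⊥ 0 hne h12 1 0
  obtain ⟨b, -, b1, b2⟩ := exists_functional₂ ⊥ 0 hne h12 0 1
  obtain ⟨φ₂, p2U, p22⟩ := exists_functional U₂ (f₂ - (d : k) • c₂ • b.domRestrict U₂) h₂ 0
  obtain ⟨t, φ₁, p1U, p11, p12, ht⟩ : ∃ (t : k) (φ₁ : (Fin (r + 1) → k) →ₗ[k] k),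
      (∀ u : U₁, φ₁ u = f₁ u - (d : k) * c₁ * a u - t * b u) ∧ φ₁ v₁ = 0 ∧
      (d = 2 → φ₁ v₂ = 0) ∧ t = if d = 2 then φ₂ v₁ else 0 := by
    rcases hgen with hd3 | hgen
    · obtain ⟨φ₁, p1, p2⟩ := exists_functional U₁ (f₁ - ((d : k) * c₁) • a.domRestrict U₁) h₁ 0
      exact ⟨0, φ₁, fun u => by simpa using p1 u, p2, fun h => by omega, by rw [if_neg (by omega)]⟩
    · obtain ⟨φ₁, p1, p2, p3⟩ := exists_functional₂ U₁
        (f₁ - ((d : k) * c₁) • a.domRestrict U₁ - (if d = 2 then φ₂ v₁ else 0) • b.domRestrict U₁) h₁ hgen 0 0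
      exact ⟨_, φ₁, fun u => by
        rw [p1 u]; simp only [LinearMap.sub_apply, LinearMap.smul_apply, LinearMap.domRestrict_apply, smul_eq_mul], p2, fun _ => p3, rfl⟩
  obtain ⟨n, rfl⟩ : ∃ n, d = n + 2 := ⟨d - 2, by omega⟩
  let P : MvPolynomial (Fin (r + 1)) k :=
    C c₁ * lin a ^ (n + 2) + C c₂ * lin b ^ (n + 2) + lin a ^ (n + 1) * lin φ₁ + lin b ^ (n + 1) * lin φ₂
  have hl : ∀ φ : (Fin (r + 1) → k) →ₗ[k] k, (lin φ).IsHomogeneous 1 := fun φ => by
    simpa using lin_pow_homogeneous φ 1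
  have hm : ∀ (φ ψ : (Fin (r + 1) → k) →ₗ[k] k), (lin φ ^ (n + 1) * lin ψ).IsHomogeneous (n + 2) := fun φ ψ =>
    IsHomogeneous.mul (m := n + 1) (n := 1) (lin_pow_homogeneous φ (n + 1)) (hl ψ)
  have hP : P.IsHomogeneous (n + 2) :=
    (((IsHomogeneous.C_mul (lin_pow_homogeneous a (n + 2)) c₁).add
      (IsHomogeneous.C_mul (lin_pow_homogeneous b (n + 2)) c₂)).add (hm a φ₁)).add (hm b φ₂)
  have hC : ∀ (c : k) (v w : Fin (r + 1) → k) (G : MvPolynomial (Fin (r + 1)) k), dd v w (C c * G) = c * dd v w G :=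
    fun c v w G => by rw [C_mul', map_smul, smul_eq_mul]
  have hev : ∀ v, aeval v P = c₁ * a v ^ (n + 2) + c₂ * b v ^ (n + 2) + a v ^ (n + 1) * φ₁ v + b v ^ (n + 1) * φ₂ v :=
    fun v => by simp only [P, map_add, map_mul, map_pow, aeval_lin, aeval_C, Algebra.algebraMap_self, RingHom.id_apply]
  have hdd : ∀ v w, dd v w P = c₁ * ((n + 2 : ℕ) * a v ^ (n + 1) * a w) + c₂ * ((n + 2 : ℕ) * b v ^ (n + 1) * b w) +
      (a v ^ (n + 1) * φ₁ w + φ₁ v * ((n + 1 : ℕ) * a v ^ n * a w)) +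
      (b v ^ (n + 1) * φ₂ w + φ₂ v * ((n + 1 : ℕ) * b v ^ n * b w)) := fun v w => by
    simp only [P, map_add, hC, dd_mul, dd_pow, dd_lin, aeval_lin, map_pow, Nat.add_sub_cancel, show ∀ i : ℕ, i + 2 - 1 = i + 1 from fun _ => rfl]
  have hpow : ∀ m : ℕ, (0 : k) ^ (m + 1) = 0 := fun m => zero_pow (Nat.succ_ne_zero m)
  refine ⟨⟨P, hP⟩, Prod.ext (Prod.ext ?_ (LinearMap.ext fun u => ?_)) (Prod.ext ?_ (LinearMap.ext fun u => ?_))⟩
  · show aeval v₁ P = c₁
    rw [hev, a1, b1, p11, hpow, hpow]; simp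
  · show dd v₁ u P = f₁ u
    rw [hdd, a1, b1, p11, p1U, hpow, ht]
    by_cases hn : n + 2 = 2
    · obtain rfl : n = 0 := by omega
      simp; ring
    · obtain ⟨l, rfl⟩ : ∃ l, n = l + 1 := ⟨n - 1, by omega⟩
      rw [if_neg hn, hpow]; simp; ring
  · show aeval v₂ P = c₂
    rw [hev, a2, b2, p22, hpow, hpow]; simp
  · show dd v₂ u P = f₂ u
    rw [hdd, a2, b2, p22, p2U, hpow]
    simp only [LinearMap.sub_apply, LinearMap.smul_apply, LinearMap.domRestrict_apply, smul_eq_mul]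
    by_cases hn : n + 2 = 2
    · obtain rfl : n = 0 := by omega
      rw [p12 hn]; simp; ring
    · obtain ⟨l, rfl⟩ : ∃ l, n = l + 1 := ⟨n - 1, by omega⟩
      rw [hpow]; simp; ring

theorem finrank_eq {d : ℕ} (hd : 2 ≤ d) (U₁ U₂ : Submodule k (Fin (r + 1) → k)) {v₁ v₂ : Fin (r + 1) → k}
    (hv : LinearIndependent k ![v₁, v₂]) (h₁ : v₁ ∉ U₁) (h₂ : v₂ ∉ U₂)
    (hgen : 3 ≤ d ∨ v₂ ∉ U₁ ⊔ Submodule.span k {v₁} ∨ v₁ ∉ U₂ ⊔ Submodule.span k {v₂}) :
    Module.finrank k (LefPen.Form r k d) =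
      Module.finrank k ↥(LinearMap.ker (data d U₁ v₁) ⊓ LinearMap.ker (data d U₂ v₂)) +
        ((1 + Module.finrank k U₁) + (1 + Module.finrank k U₂)) := by
  have key : ∀ (A B : Submodule k (Fin (r + 1) → k)) (a b : Fin (r + 1) → k),
      Function.Surjective ((data d A a).prod (data d B b)) → FiniteDimensional k (LefPen.Form r k d) →
      Module.finrank k (LefPen.Form r k d) = Module.finrank k ↥(LinearMap.ker (data d A a) ⊓ LinearMap.ker (data d B b)) +
        ((1 + Module.finrank k A) + (1 + Module.finrank k B)) := by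
    intro A B a b hs _
    have h := LinearMap.finrank_range_add_finrank_ker ((data d A a).prod (data d B b))
    rw [LinearMap.range_eq_top.2 hs, finrank_top, LinearMap.ker_prod] at h
    simp only [Module.finrank_prod, Module.finrank_self, Module.finrank_linearMap, mul_one] at h
    omega
  have hfin : FiniteDimensional k (LefPen.Form r k d) := by
    have : FiniteDimensional k ↥(restrictTotalDegree (Fin (r + 1)) k d) := inferInstance
    exact Submodule.finiteDimensional_of_le (S₂ := restrictTotalDegree (Fin (r + 1)) k d)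
      fun P hP => (mem_restrictTotalDegree _ _ _).2 ((mem_homogeneousSubmodule _ _).1 hP).totalDegree_le
  rcases hgen with h | h | h
  · exact key _ _ _ _ (data_surjective hd U₁ U₂ hv h₁ h₂ (Or.inl h)) hfin
  · exact key _ _ _ _ (data_surjective hd U₁ U₂ hv h₁ h₂ (Or.inr h)) hfin
  · have := key _ _ _ _ (data_surjective hd U₂ U₁ (LinearIndependent.pair_symm_iff.1 hv) h₂ h₁ (Or.inr h)) hfin
    rw [inf_comm] at this
    omega

theorem ker_tangLin {d : ℕ} (W U : Submodule k (Fin (r + 1) → k)) (v : Fin (r + 1) → k) (_hv : v ∈ W)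
    (hU : W = U ⊔ Submodule.span k {v}) :
    LinearMap.ker (LefPen.tangLin k W v : LefPen.Form r k d →ₗ[k] _) = LinearMap.ker (data d U v) := by
  ext G
  have ht : ∀ w : W, (LefPen.tangLin k W v G).2 w = dd v w G.1 := fun w => by
    simp [LefPen.tangLin, dd_apply]
  have heuler : dd v v G.1 = (d : k) * aeval v G.1 := by
    rw [← nsmul_eq_mul, ← map_nsmul, ← ((mem_homogeneousSubmodule _ _).1 G.2).sum_X_mul_pderiv]
    simp [dd_apply]
  rw [LinearMap.mem_ker, LinearMap.mem_ker]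
  constructor
  · intro h
    refine Prod.ext (show _ from (congrArg Prod.fst h : _)) (LinearMap.ext fun u => ?_)
    exact (ht ⟨u, hU ▸ Submodule.mem_sup_left u.2⟩).symm.trans (congrFun (congrArg Prod.snd h) _)
  · intro h
    have h0 : aeval v G.1 = 0 := congrArg Prod.fst h
    refine Prod.ext h0 (funext fun w => ?_)
    obtain ⟨u, hu, x, hx, huw⟩ := Submodule.mem_sup.1 (hU.le w.2)
    obtain ⟨c, rfl⟩ := Submodule.mem_span_singleton.1 hx
    rw [ht, ← huw, dd_add, dd_smul, LinearMap.add_apply, LinearMap.smul_apply, heuler, h0]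
    have h2 : dd v u G.1 = 0 := LinearMap.congr_fun (congrArg Prod.snd h) ⟨u, hu⟩
    simp [h2]

theorem split_line (W : Submodule k (Fin (r + 1) → k)) {v : Fin (r + 1) → k} (hv : v ∈ W)
    (f : (Fin (r + 1) → k) →ₗ[k] k) (hf : f v = 1) :
    W = (W ⊓ LinearMap.ker f) ⊔ Submodule.span k {v} ∧
      Module.finrank k W = Module.finrank k ↥(W ⊓ LinearMap.ker f) + 1 ∧ v ∉ W ⊓ LinearMap.ker f := by
  have hnot : v ∉ W ⊓ LinearMap.ker f := fun h => by
    simpa [hf] using (Submodule.mem_inf.1 h).2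
  have hW : W = (W ⊓ LinearMap.ker f) ⊔ Submodule.span k {v} := by
    refine le_antisymm (fun w hw => ?_) (sup_le inf_le_left ((Submodule.span_singleton_le_iff_mem _ _).2 hv))
    rw [show w = (w - f w • v) + f w • v by abel]
    refine add_mem (Submodule.mem_sup_left ⟨W.sub_mem hw (W.smul_mem _ hv), ?_⟩)
      (Submodule.mem_sup_right (Submodule.smul_mem _ _ (Submodule.mem_span_singleton_self v)))
    simp [hf]
  refine ⟨hW, ?_, hnot⟩
  have hv0 : v ≠ 0 := fun h => by simp [h] at hf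
  have hd : (W ⊓ LinearMap.ker f) ⊓ Submodule.span k {v} = ⊥ := by
    rw [← disjoint_iff]
    exact (Submodule.disjoint_span_singleton' hv0).2 hnot
  have := Submodule.finrank_sup_add_finrank_inf_eq (W ⊓ LinearMap.ker f) (Submodule.span k {v})
  rw [hd, ← hW, finrank_bot, finrank_span_singleton hv0] at this
  omega

end Groth.Agent.TwoPoint38
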